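import Cfsg.Agent.H146.KW.Iface
import Cfsg.Agent.H786.KW.Defs
import Cfsg.Agent.Lib.MinNormal

/-!
# Kegel-Wielandt (S4243): the reduction to the rows `H786.KW.Row`

helper146 has landed the non-simple step (`H146.KW.step_nonsimple`) and the reduction to his `SimpleCase`;
here is the same reduction for the rows of helper786 (which may use the induction hypothesis `IH`), and the
bridge `Row → NoKW`-type statements.
-/

set_option autoImplicit false
set_option linter.unusedSectionVars false

namespace Cfsg.Agent.H118.KW

open Subgroup Cfsg.Agent.H786.KW Cfsg.Agent.H146.KW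

universe u v

/-- The two vocabularies agree. -/
theorem sat_iff {G : Type u} [Group G] {p : ℕ} {H : Subgroup G} : Sat p H ↔ PSub p H := Iff.rfl

theorem all_iff_pSubAll {G : Type u} [Group G] {H : Subgroup G} : All H ↔ PSubAll H :=
  ⟨fun h p hp => h p hp.out, fun h p hp => haveI := Fact.mk hp; h p⟩

/-- `Sat` is transported by isomorphisms (any universes). -/
theorem sat_map_equiv {G : Type u} {G' : Type v} [Group G] [Group G'] [Finite G] [Finite G'] {p : ℕ}
    {H : Subgroup G} (h : Sat p H) (e : G ≃* G') : Sat p (H.map e.toMonoidHom) := by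
  intro P'
  have h1 : (P' : Subgroup G') ≤ e.toMonoidHom.range := by
    rw [MonoidHom.range_eq_top.mpr e.surjective]; exact le_top
  have h2 : ¬ p ∣ ((P' : Subgroup G').comap e.toMonoidHom).relIndex H :=
    h (P'.comapOfInjective e.toMonoidHom e.injective h1)
  rwa [Subgroup.relIndex_comap] at h2

theorem all_map_equiv {G : Type u} {G' : Type v} [Group G] [Group G'] [Finite G] [Finite G']
    {H : Subgroup G} (h : All H) (e : G ≃* G') : All (H.map e.toMonoidHom) :=
  fun p hp => sat_map_equiv (h p hp) e

/-- The group-level step: the theorem for `G` (in `Type u`) from the theorem for smaller groups and the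
simple case for `G` itself. -/
theorem step {G : Type u} [Group G] [Finite G]
    (ih' : ∀ (G' : Type u) [Group G'] [Finite G'], Nat.card G' < Nat.card G →
        ∀ H' : Subgroup G', PSubAll H' → H'.IsSubnormal)
    (hS : IsSimpleGroup G → ¬ IsMulCommutative G → ∀ H : Subgroup G, IsSimpleGroup H →
      ¬ IsMulCommutative H → H ≠ ⊤ → PSubAll H → False)
    (H : Subgroup G) (hH : PSubAll H) : H.IsSubnormal := by
  by_cases hne : Nontrivial G
  swap
  · rw [not_nontrivial_iff_subsingleton] at hne
    have : H = ⊤ := Subsingleton.elim _ _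
    rw [this]; exact Subgroup.IsSubnormal.top
  by_cases hG : IsSimpleGroup G
  · -- simple
    by_contra hcon
    have hex : ∃ m, ∃ K : Subgroup G, Nat.card K = m ∧ PSubAll K ∧ K ≠ ⊥ ∧ K ≠ ⊤ := by
      refine ⟨_, H, rfl, hH, ?_, ?_⟩
      · rintro rfl; exact hcon Subgroup.IsSubnormal.bot
      · rintro rfl; exact hcon Subgroup.IsSubnormal.top
    classical
    obtain ⟨K, hKc, hK, hK1, hK2⟩ := Nat.find_spec hex
    have hmin : ∀ K' : Subgroup G, PSubAll K' → K' ≠ ⊥ → K' ≠ ⊤ → Nat.card K ≤ Nat.card K' := by
      intro K' h1 h2 h3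
      rw [hKc]
      exact Nat.find_min' hex ⟨K', rfl, h1, h2, h3⟩
    have hKs : IsSimpleGroup K := by
      have hnt : Nontrivial K := (Subgroup.nontrivial_iff_ne_bot K).mpr hK1
      refine ⟨fun N hN => ?_⟩
      by_contra hcon
      push Not at hcon
      have hle : N.map K.subtype ≤ K := Subgroup.map_subtype_le N
      have h1 : PSubAll (N.map K.subtype) := by
        apply hK.of_normal hle
        have e : (N.map K.subtype).subgroupOf K = N := by
          ext x
          constructor
          · rintro ⟨y, hy, hyx⟩
            have : y = x := Subtype.ext hyx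
            exact this ▸ hy
          · intro hx; exact ⟨x, hx, rfl⟩
        rw [e]; exact hN
      have h2 := hmin _ h1 ?_ ?_
      · have h3 : N = ⊤ := by
          rw [← Subgroup.card_eq_iff_eq_top]
          apply le_antisymm (Subgroup.card_le_card_group N)
          rwa [← Nat.card_congr (N.equivMapOfInjective K.subtype K.subtype_injective).toEquiv] at h2
        exact hcon.2 h3
      · intro h; exact hcon.1 ((Subgroup.map_eq_bot_iff_of_injective _ K.subtype_injective).mp h)
      · intro h
        apply hK2
        rw [eq_top_iff, ← h]; exact hle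
    have hcore : ∀ (p : ℕ) [Fact p.Prime], ¬ IsPGroup p K := by
      intro p hp hKp
      have h1 : K ≤ core p G := by
        rw [core, le_iInf_iff]
        intro P
        obtain ⟨m, hm⟩ := IsPGroup.iff_card.mp hKp
        have h2 : (P : Subgroup G).relIndex K ∣ p ^ m := by
          rw [← hm]; exact Subgroup.index_dvd_card _
        obtain ⟨j, -, hj⟩ := (Nat.dvd_prime_pow hp.out).mp h2
        have hj0 : j = 0 := by
          by_contra hne
          exact hK p P (hj ▸ dvd_pow_self p hne)
        rw [hj0, pow_zero, Subgroup.relIndex_eq_one] at hj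
        exact hj
      have h2 : (core p G).Normal := inferInstance
      rcases h2.eq_bot_or_eq_top with h3 | h3
      · rw [h3, le_bot_iff] at h1; exact hK1 h1
      · have h4 : IsPGroup p G := by
          have := isPGroup_core (p := p) (X := G)
          rw [h3] at this
          exact this.of_equiv Subgroup.topEquiv
        rcases (isSubnormal_of_isPGroup _ G rfl h4 K).eq_bot_or_top_of_isSimpleGroup hG with h | h
        · exact hK1 h
        · exact hK2 h
    have hKc' : ¬ IsMulCommutative K := by
      intro hcomm
      have hnt : Nontrivial K := (Subgroup.nontrivial_iff_ne_bot K).mpr hK1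
      have hc1 : Nat.card K ≠ 1 := by
        rw [← Finite.one_lt_card_iff_nontrivial] at hnt
        exact hnt.ne'
      obtain ⟨p, hp, hd⟩ := Nat.exists_prime_and_dvd hc1
      have : Fact p.Prime := ⟨hp⟩
      obtain ⟨x, hx⟩ := exists_prime_orderOf_dvd_card' (G := K) p hd
      have hn : (Subgroup.zpowers x).Normal := by
        constructor
        intro y hy g
        have : g * y * g⁻¹ = y := by rw [hcomm.is_comm.comm g y]; group
        rw [this]; exact hy
      have htop : Subgroup.zpowers x = ⊤ := by
        rcases hKs.eq_bot_or_eq_top_of_normal _ hn with h | h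
        · exfalso
          rw [Subgroup.zpowers_eq_bot] at h
          rw [h, orderOf_one] at hx
          exact hp.one_lt.ne hx
        · exact h
      apply hcore p
      apply IsPGroup.of_card (n := 1)
      rw [pow_one, ← hx, ← Nat.card_zpowers, htop, Subgroup.card_top]
    refine hS hG (fun hc => hKc' ?_) K hKs hKc' hK2 hK
    exact ⟨⟨fun a b => Subtype.ext (hc.is_comm.comm _ _)⟩⟩
  · -- not simple
    have hex : ∃ m, ∃ K : Subgroup G, Nat.card K = m ∧ K.Normal ∧ K ≠ ⊥ ∧ K ≠ ⊤ := by
      by_contra hcon
      push Not at hcon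
      apply hG
      exact ⟨fun K hK => by
        by_contra hne2
        push Not at hne2
        exact hcon _ K rfl hK hne2.1 |> hne2.2⟩
    classical
    obtain ⟨N, hNc, hN, hN1, hN2⟩ := Nat.find_spec hex
    refine step_nonsimple hH ih' hN hN1 hN2 ?_
    intro K hK hKN
    by_contra hcon
    push Not at hcon
    have h1 : K ≠ ⊤ := fun h => hN2 (top_le_iff.mp (h ▸ hKN))
    have h2 := Nat.find_min' hex ⟨K, rfl, hK, hcon.1, h1⟩
    rw [← hNc] at h2
    exact hcon.2 (Subgroup.eq_of_le_of_card_ge hKN h2)

/-- The rows give the theorem in `Type`. -/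
theorem ih_of_rows (hrow : ∀ (S : Type) [Group S] [Finite S] [IsSimpleGroup S], ¬ IsMulCommutative S → Row S) :
    ∀ n : ℕ, IH n := by
  intro n
  induction n with
  | zero => intro K _ _ h; exact absurd h (Nat.not_lt_zero _)
  | succ n ih =>
    intro K _ _ hK H hH
    have hKn : Nat.card K ≤ n := Nat.lt_succ_iff.mp hK
    refine step (G := K) (fun G' _ _ hlt H' hH' => ih G' (hlt.trans_le hKn) H' (all_iff_pSubAll.mpr hH')) ?_ H
      (all_iff_pSubAll.mp hH)
    intro hs hna L hLs hLna hLtop hL
    refine hLtop (hrow K hna (fun G' _ _ hlt => ?_) L hLs hLna (all_iff_pSubAll.mpr hL))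
    exact ih G' (hlt.trans_le hKn)

/-- **The reduction** (task KW-RED): the rows give the theorem of Kegel and Wielandt in every universe. -/
theorem isSubnormal_of_rows
    (hrow : ∀ (S : Type) [Group S] [Finite S] [IsSimpleGroup S], ¬ IsMulCommutative S → Row S)
    (G : Type*) [Group G] [Finite G] (H : Subgroup G) (hH : All H) : H.IsSubnormal := by
  obtain ⟨G', _, ⟨e⟩⟩ := Cfsg.Agent.Lib.MinNormal.exists_type_zero_model G
  have : Finite G' := Finite.of_equiv G e.symm.toEquiv
  have h1 : (H.map e.symm.toMonoidHom).IsSubnormal :=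
    ih_of_rows hrow (Nat.card G' + 1) G' (Nat.lt_succ_self _) _ (all_map_equiv hH e.symm)
  have h2 := h1.comap e.symm.toMonoidHom
  rwa [Subgroup.comap_map_eq_self_of_injective e.symm.injective] at h2

/-- The nontrivial half of S4243 from the rows. -/
theorem isSubnormal_of_dvd
    (hrow : ∀ (S : Type) [Group S] [Finite S] [IsSimpleGroup S], ¬ IsMulCommutative S → Row S)
    {G : Type*} [Group G] [Finite G] (H : Subgroup G)
    (h : ∀ K : Subgroup G, (H ⊓ K).relIndex K ∣ H.index) : H.IsSubnormal :=
  isSubnormal_of_rows hrow G H (all_iff_pSubAll.mpr fun _ _ => psub_of_hyp h)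

/-- **S4243 from the rows.** -/
theorem statement_of_rows
    (hrow : ∀ (S : Type) [Group S] [Finite S] [IsSimpleGroup S], ¬ IsMulCommutative S → Row S)
    {G : Type*} [Group G] [Finite G] (H : Subgroup G) :
    H.IsSubnormal ↔ ∀ K : Subgroup G, (H ⊓ K).relIndex K ∣ H.index :=
  ⟨fun h K => relIndex_dvd_of_isSubnormal h K, isSubnormal_of_dvd hrow H⟩

/-- A row of helper146 (`NoKW`) is a row of helper786. -/
theorem row_of_noKW {S : Type} [Group S] [Finite S] [IsSimpleGroup S] (h : NoKW S) : Row S := by
  intro hIH L hLs hLna hL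
  by_contra hne
  refine h L hLs hLna hne (all_iff_pSubAll.mp hL) fun M hLM hM => ?_
  exact hIH M (card_lt_of_ne_top hM) _ (all_iff_pSubAll.mpr ((all_iff_pSubAll.mp hL).subgroupOf hLM))

/-- Conversely, a row of helper786 for a group in `Type` gives the simple case used in the induction. -/
theorem no_proper_of_row {S : Type} [Group S] [Finite S] [IsSimpleGroup S] (h : Row S) (hIH : IH (Nat.card S))
    {H : Subgroup S} (hs : IsSimpleGroup H) (hc : ¬ IsMulCommutative H) (ht : H ≠ ⊤) (hK : PSubAll H) : False :=
  ht (h hIH H hs hc (all_iff_pSubAll.mpr hK))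

end Cfsg.Agent.H118.KW
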