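import Cfsg.Agent.H232.KW.E7
import Cfsg.Agent.S1063

/-!
# The row `E₆(q)` of S4243

Isolated tori `Φ₉`, `Φ₁₂ Φ₃`, `Φ₈ (q² - 1)`.  Every prime `s ≥ 5`, `s ≠ r`, is killed, and so is `2` for `q` odd.
-/

set_option autoImplicit false
set_option linter.unusedSectionVars false

open Subgroup

namespace Cfsg.Agent.H118.KW.E6

open Cfsg.Agent.H146.KW Cfsg.Agent.H622.KW Cfsg.Agent.H416.Arith Cfsg.Agent.H232.KW

universe u v

section Arith

/-- the torus factors -/
structure Tori (q a9 a12 a3 a8 : ℕ) : Prop where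
  h9 : (a9 : ℤ) = 1 + (q : ℤ) ^ 3 + (q : ℤ) ^ 6
  h12 : (a12 : ℤ) = 1 - (q : ℤ) ^ 2 + (q : ℤ) ^ 4
  h3 : (a3 : ℤ) = 1 + (q : ℤ) + (q : ℤ) ^ 2
  h8 : (a8 : ℤ) = 1 + (q : ℤ) ^ 4

theorem exists_tori {q : ℕ} (hq : 2 ≤ q) : ∃ a9 a12 a3 a8, Tori q a9 a12 a3 a8 := by
  have hpos : ∀ z : ℤ, 0 ≤ z → ∃ a : ℕ, (a : ℤ) = z := fun z hz => ⟨z.toNat, Int.toNat_of_nonneg hz⟩
  obtain ⟨x, rfl⟩ := Nat.exists_eq_add_of_le' hq
  obtain ⟨a9, h9⟩ := hpos (1 + ((x + 2 : ℕ) : ℤ) ^ 3 + ((x + 2 : ℕ) : ℤ) ^ 6) (by positivity)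
  obtain ⟨a12, h12⟩ := hpos (1 - ((x + 2 : ℕ) : ℤ) ^ 2 + ((x + 2 : ℕ) : ℤ) ^ 4) (by
      push_cast
      ring_nf
      positivity)
  obtain ⟨a3, h3⟩ := hpos (1 + ((x + 2 : ℕ) : ℤ) + ((x + 2 : ℕ) : ℤ) ^ 2) (by positivity)
  obtain ⟨a8, h8⟩ := hpos (1 + ((x + 2 : ℕ) : ℤ) ^ 4) (by positivity)
  exact ⟨a9, a12, a3, a8, h9, h12, h3, h8⟩

namespace Tori

variable {q a9 a12 a3 a8 : ℕ} (T : Tori q a9 a12 a3 a8)
include T

theorem m9 (hq : 2 ≤ q) : q ^ 9 - 1 = a9 * (q ^ 3 - 1) := by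
  zify [Nat.one_le_pow 9 q (by omega), Nat.one_le_pow 3 q (by omega)]
  rw [T.h9]; ring

theorem m8 (hq : 2 ≤ q) : q ^ 8 - 1 = a8 * (q ^ 4 - 1) := by
  zify [Nat.one_le_pow 8 q (by omega), Nat.one_le_pow 4 q (by omega)]
  rw [T.h8]; ring

theorem m12 (hq : 2 ≤ q) : q ^ 12 - 1 = a12 * ((q ^ 6 - 1) * (q ^ 2 + 1)) := by
  zify [Nat.one_le_pow 12 q (by omega), Nat.one_le_pow 6 q (by omega)]
  rw [T.h12]; ring

theorem odd9 : ¬ 2 ∣ a9 := by
  intro h
  have h1 : ((2 : ℕ) : ℤ) ∣ (a9 : ℤ) := Int.natCast_dvd_natCast.2 h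
  rw [T.h9, ← ZMod.intCast_zmod_eq_zero_iff_dvd] at h1
  push_cast at h1
  generalize (q : ZMod 2) = x at h1
  revert h1; revert x; decide

theorem odd12 : ¬ 2 ∣ a12 := by
  intro h
  have h1 : ((2 : ℕ) : ℤ) ∣ (a12 : ℤ) := Int.natCast_dvd_natCast.2 h
  rw [T.h12, ← ZMod.intCast_zmod_eq_zero_iff_dvd] at h1
  push_cast at h1
  generalize (q : ZMod 2) = x at h1
  revert h1; revert x; decide

theorem odd3 : ¬ 2 ∣ a3 := by
  intro h
  have h1 : ((2 : ℕ) : ℤ) ∣ (a3 : ℤ) := Int.natCast_dvd_natCast.2 h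
  rw [T.h3, ← ZMod.intCast_zmod_eq_zero_iff_dvd] at h1
  push_cast at h1
  generalize (q : ZMod 2) = x at h1
  revert h1; revert x; decide

theorem three12 : ¬ 3 ∣ a12 := by
  intro h
  have h1 : ((3 : ℕ) : ℤ) ∣ (a12 : ℤ) := Int.natCast_dvd_natCast.2 h
  rw [T.h12, ← ZMod.intCast_zmod_eq_zero_iff_dvd] at h1
  push_cast at h1
  generalize (q : ZMod 3) = x at h1
  revert h1; revert x; decide

theorem three8 : ¬ 3 ∣ a8 := by
  intro h
  have h1 : ((3 : ℕ) : ℤ) ∣ (a8 : ℤ) := Int.natCast_dvd_natCast.2 h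
  rw [T.h8, ← ZMod.intCast_zmod_eq_zero_iff_dvd] at h1
  push_cast at h1
  generalize (q : ZMod 3) = x at h1
  revert h1; revert x; decide

theorem sq9 : ¬ 3 ^ 2 ∣ a9 := by
  intro h
  have h1 : ((3 ^ 2 : ℕ) : ℤ) ∣ (a9 : ℤ) := Int.natCast_dvd_natCast.2 h
  rw [T.h9, ← ZMod.intCast_zmod_eq_zero_iff_dvd] at h1
  push_cast at h1
  generalize (q : ZMod (3 ^ 2)) = x at h1
  revert h1; revert x; decide +kernel

theorem sq8 : ¬ 2 ^ 2 ∣ a8 := by
  intro h
  have h1 : ((2 ^ 2 : ℕ) : ℤ) ∣ (a8 : ℤ) := Int.natCast_dvd_natCast.2 h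
  rw [T.h8, ← ZMod.intCast_zmod_eq_zero_iff_dvd] at h1
  push_cast at h1
  generalize (q : ZMod (2 ^ 2)) = x at h1
  revert h1; revert x; decide +kernel

theorem pos : 0 < a9 ∧ 0 < a12 ∧ 0 < a8 := by
  refine ⟨Nat.pos_of_ne_zero ?_, Nat.pos_of_ne_zero ?_, Nat.pos_of_ne_zero ?_⟩
  · rintro rfl; exact T.odd9 (dvd_zero _)
  · rintro rfl; exact T.odd12 (dvd_zero _)
  · rintro rfl; exact T.sq8 (dvd_zero _)

/-- `s ∣ q² - 1` -/
theorem not_dvd3 {s : ℕ} (hs : s.Prime) (hs5 : 5 ≤ s) (hq : 2 ≤ q) (h : s ∣ q - 1 ∨ s ∣ q + 1) : ¬ s ∣ a3 := by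
  have := Fact.mk hs
  intro h6
  have h1 : ((s : ℕ) : ℤ) ∣ (a3 : ℤ) := Int.natCast_dvd_natCast.2 h6
  rw [T.h3] at h1
  rcases h with h | h
  · have h2 : ((s : ℕ) : ℤ) ∣ (q : ℤ) - 1 := by
      have := Int.natCast_dvd_natCast.2 h
      rwa [Nat.cast_sub (by omega), Nat.cast_one] at this
    have h3 : (s : ℤ) ∣ 3 := by
      have h4 := dvd_sub h1 (h2.mul_left ((q : ℤ) + 2))
      have e : 1 + (q : ℤ) + (q : ℤ) ^ 2 - ((q : ℤ) + 2) * ((q : ℤ) - 1) = 3 := by ring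
      rwa [e] at h4
    have h4 := Int.natCast_dvd_natCast.1 (by exact_mod_cast h3 : (s : ℤ) ∣ ((3 : ℕ) : ℤ))
    have := Nat.le_of_dvd (by norm_num) h4
    omega
  · have h2 : ((s : ℕ) : ℤ) ∣ (q : ℤ) + 1 := by
      have := Int.natCast_dvd_natCast.2 h
      push_cast at this
      exact this
    have h3 : (s : ℤ) ∣ 1 := by
      have h4 := dvd_sub h1 (h2.mul_left (q : ℤ))
      have e : 1 + (q : ℤ) + (q : ℤ) ^ 2 - (q : ℤ) * ((q : ℤ) + 1) = 1 := by ring
      rwa [e] at h4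
    have h4 := Int.natCast_dvd_natCast.1 (by exact_mod_cast h3 : (s : ℤ) ∣ ((1 : ℕ) : ℤ))
    exact hs.one_lt.ne' (Nat.dvd_one.1 h4)

theorem bound1 (hq : 4 ≤ q) : 3 * (5 * (q + 1) ^ 6) < a9 * a12 := by
  zify
  rw [T.h9, T.h12]
  obtain ⟨x, rfl⟩ := Nat.exists_eq_add_of_le' hq
  push_cast
  have h : (0 : ℤ) ≤ x := by positivity
  rw [← sub_pos]
  ring_nf
  positivity

theorem bound2 (hq : 3 ≤ q) : 6 * (q + 1) ^ 6 < a9 * a8 := by
  zify
  rw [T.h9, T.h8]
  obtain ⟨x, rfl⟩ := Nat.exists_eq_add_of_le' hq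
  push_cast
  have h : (0 : ℤ) ≤ x := by positivity
  rw [← sub_pos]
  ring_nf
  positivity

theorem bound3 (hq : 2 ≤ q) : 6 * (q + 1) ^ 6 < a9 * a12 * a8 := by
  zify
  rw [T.h9, T.h12, T.h8]
  obtain ⟨x, rfl⟩ := Nat.exists_eq_add_of_le' hq
  push_cast
  have h : (0 : ℤ) ≤ x := by positivity
  rw [← sub_pos]
  ring_nf
  positivity

theorem bound4 {b : ℕ} (hq : 5 ≤ q) (hb : b ≤ q - 1) : 3 * (128 * (q + 1) ^ 4 * b ^ 2) < a9 * a12 := by
  have h1 : 3 * (128 * (q + 1) ^ 4 * b ^ 2) ≤ 3 * (128 * (q + 1) ^ 4 * (q - 1) ^ 2) :=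
    Nat.mul_le_mul_left _ (Nat.mul_le_mul_left _ (Nat.pow_le_pow_left hb 2))
  refine lt_of_le_of_lt h1 ?_
  zify [show 1 ≤ q by omega]
  rw [T.h9, T.h12]
  obtain ⟨x, rfl⟩ := Nat.exists_eq_add_of_le' hq
  push_cast
  have h : (0 : ℤ) ≤ x := by positivity
  rw [← sub_pos]
  ring_nf
  positivity

theorem bound5 (hq : 5 ≤ q) : 3 * (512 * (q + 1) ^ 4) < a9 * a12 := by
  zify
  rw [T.h9, T.h12]
  obtain ⟨x, rfl⟩ := Nat.exists_eq_add_of_le' hq
  push_cast
  have h : (0 : ℤ) ≤ x := by positivity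
  rw [← sub_pos]
  ring_nf
  positivity

end Tori

/-- degrees -/
def dE : Finset ℕ := {2, 5, 6, 8, 9, 12}

theorem dE_pos : ∀ d ∈ dE, 0 < d := by decide

theorem prod_dE : ∏ d ∈ dE, d = 51840 := by decide +kernel

theorem prod_dE' (q : ℕ) : ∏ d ∈ dE, (q ^ d - 1) = (q ^ 2 - 1) * (q ^ 5 - 1) * (q ^ 6 - 1) * (q ^ 8 - 1) *
    (q ^ 9 - 1) * (q ^ 12 - 1) := by
  unfold dE
  repeat rw [Finset.prod_insert (by decide)]
  rw [Finset.prod_singleton]
  ring

theorem tp_w {t : ℕ} (ht : t.Prime) (ht5 : 5 ≤ t) : tp t 51840 ≤ 5 ∧ (t ≠ 5 → tp t 51840 = 1) := by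
  have h1 : t ≠ 5 → tp t 51840 = 1 := by
    intro h5
    apply tp_eq_one
    intro h
    rw [show (51840 : ℕ) = 2 ^ 7 * 3 ^ 4 * 5 by norm_num] at h
    rcases (Nat.Prime.dvd_mul ht).1 h with h | h
    · rcases (Nat.Prime.dvd_mul ht).1 h with h | h
      · have := (Nat.prime_dvd_prime_iff_eq ht Nat.prime_two).1 (ht.dvd_of_dvd_pow h)
        omega
      · have := (Nat.prime_dvd_prime_iff_eq ht Nat.prime_three).1 (ht.dvd_of_dvd_pow h)
        omega
    · exact h5 ((Nat.prime_dvd_prime_iff_eq ht Nat.prime_five).1 h)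
  refine ⟨?_, h1⟩
  by_cases h5 : t = 5
  · subst h5
    exact (tp_le_of_not_dvd (b := 1) ht (by norm_num) (by norm_num)).trans (by norm_num)
  · rw [h1 h5]; norm_num

theorem tpE_all {t q : ℕ} (ht : t.Prime) (ht5 : 5 ≤ t) (hq : 2 ≤ q) (htq : ¬ t ∣ q) :
    tp t (∏ d ∈ dE, (q ^ d - 1)) ≤ 5 * (q + 1) ^ 6 := by
  obtain ⟨e, he, -, hn⟩ := exists_ord ht hq htq
  refine (tp_prod_le ht (by omega) hq htq he hn dE dE_pos (tp_order ht hq he hn)).trans ?_
  rw [prod_dE, mul_comm, ← pow_mul]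
  refine Nat.mul_le_mul (tp_w ht ht5).1 (Nat.pow_le_pow_right (by omega) ?_)
  by_cases h30 : e ≤ 12
  · have key : ∀ e ≤ 12, e.totient * (dE.filter (fun d => e ∣ d)).card ≤ 6 := by decide +kernel
    exact key e h30
  · have : dE.filter (fun d => e ∣ d) = ∅ := by
      rw [Finset.filter_eq_empty_iff]
      intro d hd hed
      have h4 : ∀ d ∈ dE, d ≤ 12 := by decide
      have h4' := h4 d hd
      have := Nat.le_of_dvd (dE_pos d hd) hed
      omega
    rw [this]; simp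

theorem tpE_three {t q : ℕ} (ht : t.Prime) (ht5 : 5 ≤ t) (hq : 2 ≤ q) (htq : ¬ t ∣ q) (h1 : ¬ t ∣ q - 1)
    (h2 : ¬ t ∣ q + 1) : tp t (∏ d ∈ dE, (q ^ d - 1)) ≤ (q + 1) ^ 6 := by
  obtain ⟨e, he, het, hn⟩ := exists_ord ht hq htq
  have hsq : q ^ 2 - 1 = (q + 1) * (q - 1) := by
    have := Nat.sq_sub_sq q 1
    rwa [one_pow] at this
  have he1 : e ≠ 1 := by
    rintro rfl
    exact h1 (by have := (hn 1).2 dvd_rfl; rwa [pow_one] at this)
  have he2 : e ≠ 2 := by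
    rintro rfl
    have := (hn 2).2 dvd_rfl
    rw [hsq] at this
    rcases (Nat.Prime.dvd_mul ht).1 this with h | h
    · exact h2 h
    · exact h1 h
  refine (tp_prod_le ht (by omega) hq htq he hn dE dE_pos (tp_order ht hq he hn)).trans ?_
  rw [prod_dE, mul_comm, ← pow_mul]
  have hexp : e.totient * (dE.filter (fun d => e ∣ d)).card ≤ 6 ∧
      (e ≤ 4 → e.totient * (dE.filter (fun d => e ∣ d)).card ≤ 4 ∨ e = 3) := by
    by_cases h30 : e ≤ 12
    · have key : ∀ e ≤ 12, e = 0 ∨ e = 1 ∨ e = 2 ∨ e.totient * (dE.filter (fun d => e ∣ d)).card ≤ 6 := by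
        decide +kernel
      have key2 : ∀ e ≤ 4, e = 0 ∨ e = 1 ∨ e = 2 ∨ e = 3 ∨ e.totient * (dE.filter (fun d => e ∣ d)).card ≤ 4 := by
        decide +kernel
      refine ⟨?_, fun h4 => ?_⟩
      · rcases key e h30 with h | h | h | h
        · omega
        · exact absurd h he1
        · exact absurd h he2
        · exact h
      · rcases key2 e h4 with h | h | h | h | h
        · omega
        · exact absurd h he1
        · exact absurd h he2
        · exact Or.inr h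
        · exact Or.inl h
    · have : dE.filter (fun d => e ∣ d) = ∅ := by
        rw [Finset.filter_eq_empty_iff]
        intro d hd hed
        have h4 : ∀ d ∈ dE, d ≤ 12 := by decide
        have h4' := h4 d hd
        have := Nat.le_of_dvd (dE_pos d hd) hed
        omega
      rw [this]; simp
  by_cases h5 : t = 5
  · have he4 : e ∣ 4 := by
      rw [← hn 4]
      subst h5
      have h3 : (q : ZMod 5) ≠ 0 := by rwa [Ne, ZMod.natCast_eq_zero_iff]
      rw [← ZMod.natCast_eq_zero_iff, Nat.cast_sub (Nat.one_le_pow _ _ (by omega))]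
      push_cast
      rw [sub_eq_zero]
      generalize (q : ZMod 5) = x at h3
      revert h3; revert x; decide
    have he3 : e ≠ 3 := by rintro rfl; omega
    have h6 := (hexp.2 (Nat.le_of_dvd (by norm_num) he4)).resolve_right he3
    calc tp t 51840 * (q + 1) ^ (e.totient * (dE.filter (fun d => e ∣ d)).card) ≤ 5 * (q + 1) ^ 4 :=
          Nat.mul_le_mul (tp_w ht ht5).1 (Nat.pow_le_pow_right (by omega) h6)
      _ ≤ (q + 1) ^ 2 * (q + 1) ^ 4 := by
          refine Nat.mul_le_mul_right _ ?_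
          have : 3 * 3 ≤ (q + 1) * (q + 1) := Nat.mul_le_mul (by omega) (by omega)
          rw [sq]
          omega
      _ = (q + 1) ^ 6 := by ring
  · rw [(tp_w ht ht5).2 h5, one_mul]
    exact Nat.pow_le_pow_right (by omega) hexp.1

/-- the `2`-part -/
theorem tp2_bound {q b : ℕ} (hq : 3 ≤ q) (hodd : q % 2 = 1) (hb : tp 2 (q - 1) ≤ b) :
    tp 2 ((q ^ 2 - 1) * (q ^ 5 - 1) * (q ^ 6 - 1) * (q ^ 8 - 1) * (q ^ 9 - 1) * (q ^ 12 - 1)) ≤
      128 * (q + 1) ^ 4 * b ^ 2 := by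
  have htq : ¬ 2 ∣ q := by omega
  have h2q : 2 ∣ q - 1 := by omega
  have h0 : tp 2 (q + 1) * tp 2 (q - 1) ≤ 2 * (q + 1) := by
    have hp : ∀ n, n ≠ 0 → tp 2 n ≤ n := fun n hn => Nat.le_of_dvd (Nat.pos_of_ne_zero hn) (tp_dvd 2 n)
    by_cases h4 : 4 ∣ q - 1
    · have h5 : tp 2 (q + 1) ≤ 2 ^ 1 := tp_le_of_not_dvd Nat.prime_two (by omega) (by norm_num; omega)
      calc _ ≤ 2 ^ 1 * (q - 1) := Nat.mul_le_mul h5 (hp _ (by omega))
        _ ≤ 2 * (q + 1) := by omega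
    · have h5 : tp 2 (q - 1) ≤ 2 ^ 1 := tp_le_of_not_dvd Nat.prime_two (by omega) (by norm_num; omega)
      calc _ ≤ (q + 1) * 2 ^ 1 := Nat.mul_le_mul (hp _ (by omega)) h5
        _ ≤ 2 * (q + 1) := by omega
  have h3 : ∀ d, d ≠ 0 → Even d → tp 2 (q ^ d - 1) ≤ (q + 1) * tp 2 d := by
    intro d hd hev
    have h3 := padicValNat.pow_two_sub_pow (x := q) (y := 1) (by omega) h2q htq hd hev
    rw [one_pow] at h3
    rw [← Nat.factorization_def _ Nat.prime_two, ← Nat.factorization_def _ Nat.prime_two,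
      ← Nat.factorization_def _ Nat.prime_two, ← Nat.factorization_def _ Nat.prime_two] at h3
    have h4 : 2 * tp 2 (q ^ d - 1) = tp 2 (q + 1) * tp 2 (q - 1) * tp 2 d := by
      unfold tp
      rw [← pow_add, ← pow_add, ← h3, pow_succ']
    have h5 : tp 2 (q + 1) * tp 2 (q - 1) * tp 2 d ≤ 2 * (q + 1) * tp 2 d := Nat.mul_le_mul_right _ h0
    have e : 2 * (q + 1) * tp 2 d = 2 * ((q + 1) * tp 2 d) := by ring
    omega
  have hodd' : ∀ k c : ℕ, ¬ 2 ∣ c → q ^ k - 1 = (q - 1) * c → tp 2 (q ^ k - 1) ≤ b := by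
    intro k c hc he
    have hc0 : c ≠ 0 := by
      rintro rfl
      exact hc (dvd_zero _)
    rw [he, tp_mul 2 (by omega) hc0, tp_eq_one hc, mul_one]
    exact hb
  have h5 : tp 2 (q ^ 5 - 1) ≤ b := by
    refine hodd' 5 (q ^ 4 + q ^ 3 + q ^ 2 + q + 1) ?_ ?_
    · intro h
      rw [← ZMod.natCast_eq_zero_iff] at h
      push_cast at h
      generalize (q : ZMod 2) = x at h
      revert h; revert x; decide
    · zify [Nat.one_le_pow 5 q (by omega), show 1 ≤ q by omega]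
      ring
  have h9 : tp 2 (q ^ 9 - 1) ≤ b := by
    refine hodd' 9 ((q ^ 6 + q ^ 3 + 1) * (q ^ 2 + q + 1)) ?_ ?_
    · intro h
      rw [← ZMod.natCast_eq_zero_iff] at h
      push_cast at h
      generalize (q : ZMod 2) = x at h
      revert h; revert x; decide
    · zify [Nat.one_le_pow 9 q (by omega), show 1 ≤ q by omega]
      ring
  have p : ∀ d, 0 < d → q ^ d - 1 ≠ 0 := fun d hd => (pow_sub_one_pos (by omega) hd).ne'
  rw [tp_mul 2 (mul_ne_zero (mul_ne_zero (mul_ne_zero (mul_ne_zero (p 2 (by norm_num)) (p 5 (by norm_num)))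
      (p 6 (by norm_num))) (p 8 (by norm_num))) (p 9 (by norm_num))) (p 12 (by norm_num)),
    tp_mul 2 (mul_ne_zero (mul_ne_zero (mul_ne_zero (p 2 (by norm_num)) (p 5 (by norm_num))) (p 6 (by norm_num)))
      (p 8 (by norm_num))) (p 9 (by norm_num)),
    tp_mul 2 (mul_ne_zero (mul_ne_zero (p 2 (by norm_num)) (p 5 (by norm_num))) (p 6 (by norm_num)))
      (p 8 (by norm_num)),
    tp_mul 2 (mul_ne_zero (p 2 (by norm_num)) (p 5 (by norm_num))) (p 6 (by norm_num)),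
    tp_mul 2 (p 2 (by norm_num)) (p 5 (by norm_num))]
  have e2 : tp 2 2 ≤ 2 ^ 1 := tp_le_of_not_dvd Nat.prime_two (by norm_num) (by norm_num)
  have e6 : tp 2 6 ≤ 2 ^ 1 := tp_le_of_not_dvd Nat.prime_two (by norm_num) (by norm_num)
  have e8 : tp 2 8 ≤ 2 ^ 3 := tp_le_of_not_dvd Nat.prime_two (by norm_num) (by norm_num)
  have e12 : tp 2 12 ≤ 2 ^ 2 := tp_le_of_not_dvd Nat.prime_two (by norm_num) (by norm_num)
  have g2 := (h3 2 (by norm_num) (by decide)).trans (Nat.mul_le_mul_left _ e2)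
  have g6 := (h3 6 (by norm_num) (by decide)).trans (Nat.mul_le_mul_left _ e6)
  have g8 := (h3 8 (by norm_num) (by decide)).trans (Nat.mul_le_mul_left _ e8)
  have g12 := (h3 12 (by norm_num) (by decide)).trans (Nat.mul_le_mul_left _ e12)
  calc _ ≤ ((q + 1) * 2 ^ 1) * b * ((q + 1) * 2 ^ 1) * ((q + 1) * 2 ^ 3) * b * ((q + 1) * 2 ^ 2) :=
        Nat.mul_le_mul (Nat.mul_le_mul (Nat.mul_le_mul (Nat.mul_le_mul (Nat.mul_le_mul g2 h5) g6) g8) h9) g12
    _ = _ := by ring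

end Arith

section Main

variable {F : Type v} [Field F] [Fintype F] {q : ℕ} {a9 a12 a3 a8 : ℕ}

theorem iso9 (hq : Fintype.card F = q) (T : Tori q a9 a12 a3 a8) {t : ℕ}
    (ht : t.Prime) (h : t ∣ a9) (h3 : t ≠ 3) : Iso ↥(Cfsg.Lie.chevE6.group F) t a9 :=
  Iso.of_cycCard ht (H129.CycCard.card_E6_9 hq T.h9 ht (zdvd h T.h9) h3)

theorem iso12 (hq : Fintype.card F = q) (T : Tori q a9 a12 a3 a8) {t : ℕ}
    (ht : t.Prime) (h : t ∣ a12) : Iso ↥(Cfsg.Lie.chevE6.group F) t (a12 * a3) :=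
  Iso.of_cycCard ht (H129.CycCard.card_E6_12 hq (m := a12 * a3)
    (by rw [Nat.cast_mul, T.h12, T.h3]) ht (zdvd h T.h12))

theorem iso8 (hq : Fintype.card F = q) (hq2 : 2 ≤ q) (T : Tori q a9 a12 a3 a8) {t : ℕ}
    (ht : t.Prime) (h : t ∣ a8) (h2 : t ≠ 2) : Iso ↥(Cfsg.Lie.chevE6.group F) t (a8 * (q ^ 2 - 1)) :=
  Iso.of_cycCard ht (H129.CycCard.card_E6_8 hq (m := a8 * (q ^ 2 - 1))
    (by rw [Nat.cast_mul, T.h8, Nat.cast_sub (Nat.one_le_pow 2 q (by omega))]; push_cast; ring) ht (zdvd h T.h8) h2)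

/-- The row `E₆(q)`. -/
theorem noKW_e6 {G : Type u} [Group G] [Finite G] [IsSimpleGroup G]
    (e : G ≃* ↥(Cfsg.Lie.chevE6.group F)) : NoKW G := by
  intro H hHs hc ht hK _
  obtain ⟨q, hq⟩ : ∃ q, Fintype.card F = q := ⟨_, rfl⟩
  have hq2 : 2 ≤ q := by rw [← hq]; exact Fintype.one_lt_card
  obtain ⟨r, hch⟩ := CharP.exists F
  have hr : r.Prime := CharP.char_is_prime F r
  have hsq : ∀ s : ℕ, s.Prime → s ≠ r → ¬ s ∣ q := by
    intro s hs hsr
    exact hq ▸ not_dvd_card (F := F) hr hs hsr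
  obtain ⟨a9, a12, a3, a8, T⟩ := exists_tori hq2
  obtain ⟨p9, p12, p8⟩ := T.pos
  -- the order
  have hcard := S1063.result (F := F) hq
  rw [← Nat.card_congr e.toEquiv] at hcard
  set M := (q ^ 2 - 1) * (q ^ 5 - 1) * (q ^ 6 - 1) * (q ^ 8 - 1) * (q ^ 9 - 1) * (q ^ 12 - 1) with hM
  have hcard' : Nat.gcd 3 (q - 1) * Nat.card G = q ^ 36 * M := by
    rw [hcard, hM]; ring
  have p : ∀ d, 0 < d → q ^ d - 1 ≠ 0 := fun d hd => (pow_sub_one_pos (by omega) hd).ne'
  have hM0 : M ≠ 0 := by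
    rw [hM]
    exact mul_ne_zero (mul_ne_zero (mul_ne_zero (mul_ne_zero (mul_ne_zero (p 2 (by norm_num)) (p 5 (by norm_num)))
      (p 6 (by norm_num))) (p 8 (by norm_num))) (p 9 (by norm_num))) (p 12 (by norm_num))
  have hprod : a9 * a12 * a8 ∣ M := by
    rw [hM, T.m9 hq2, T.m8 hq2, T.m12 hq2]
    exact ⟨(q ^ 2 - 1) * (q ^ 5 - 1) * (q ^ 6 - 1) * (q ^ 4 - 1) * (q ^ 3 - 1) * ((q ^ 6 - 1) * (q ^ 2 + 1)), by ring⟩
  have hdvd : ∀ N : ℕ, ¬ 3 ∣ N → N ∣ a9 * a12 * a8 → N ∣ Nat.card G := by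
    intro N hN hd
    have h1 : N ∣ Nat.gcd 3 (q - 1) * Nat.card G := by
      rw [hcard']
      exact (hd.trans hprod).mul_left _
    refine Nat.Coprime.dvd_of_dvd_mul_left ?_ h1
    exact Nat.Coprime.coprime_dvd_right (Nat.gcd_dvd_left 3 (q - 1))
      ((Nat.Prime.coprime_iff_not_dvd Nat.prime_three).2 hN).symm
  have htp : ∀ s : ℕ, s.Prime → s ≠ r → s ≠ 3 → s ^ (Nat.card G).factorization s = tp s M := by
    intro s hs hsr hs3
    have hg0 : Nat.gcd 3 (q - 1) ≠ 0 := (Nat.gcd_pos_of_pos_left _ (by norm_num)).ne'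
    have hg : ¬ s ∣ Nat.gcd 3 (q - 1) := fun h =>
      hs3 ((Nat.prime_dvd_prime_iff_eq hs Nat.prime_three).1 (h.trans (Nat.gcd_dvd_left 3 (q - 1))))
    have h1 : tp s (Nat.gcd 3 (q - 1) * Nat.card G) = tp s (q ^ 36 * M) := by
      rw [hcard']
    rw [tp_mul s hg0 Nat.card_pos.ne', tp_mul s (pow_ne_zero _ (by omega)) hM0,
      tp_eq_one hg, tp_eq_one (fun h => hsq s hs hsr (hs.dvd_of_dvd_pow h)), one_mul, one_mul] at h1
    exact h1
  -- the isolated tori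
  have i9 : ∀ t, t.Prime → t ∣ a9 ∧ t ≠ 3 → Iso G t a9 := fun t htp h =>
    (iso9 hq T htp h.1 h.2).of_mulEquiv e.symm
  have i12 : ∀ t, t.Prime → t ∣ a12 → Iso G t (a12 * a3) := fun t htp h =>
    (iso12 hq T htp h).of_mulEquiv e.symm
  have i8 : ∀ t, t.Prime → t ∣ a8 ∧ t ≠ 2 → Iso G t (a8 * (q ^ 2 - 1)) := fun t htp h =>
    (iso8 hq hq2 T htp h.1 h.2).of_mulEquiv e.symm
  obtain ⟨n9, d9, l9, t9⟩ := exists_part Nat.prime_three p9.ne' T.sq9
  obtain ⟨n8, d8, l8, t8⟩ := exists_part Nat.prime_two p8.ne' T.sq8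
  have hn9 : ¬ 3 ∣ n9 := fun h => (t9 3 Nat.prime_three h).2 rfl
  have hn8 : ¬ 3 ∣ n8 := fun h => T.three8 (h.trans d8)
  -- primes at least 5
  have kill5 : ∀ s : ℕ, s.Prime → 5 ≤ s → s ≠ r → ¬ s ∣ Nat.card H := by
    intro s hs hs5 hsr hsH
    have hsq' := hsq s hs hsr
    have c9 : ¬ s ∣ a9 := fun h => (i9 s hs ⟨h, by omega⟩).not_dvd hs hK ht hsH
    have c12 : ¬ s ∣ a12 := fun h => (i12 s hs h).not_dvd hs hK ht hsH
    have c8 : ¬ s ∣ a8 := fun h => (i8 s hs ⟨h, by omega⟩).not_dvd hs hK ht hsH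
    have hd6 : tp s M = tp s (∏ d ∈ dE, (q ^ d - 1)) := by
      rw [hM, prod_dE']
    by_cases h12 : s ∣ q - 1 ∨ s ∣ q + 1
    · have hq4 : 4 ≤ q := by
        rcases h12 with h | h
        · have := Nat.le_of_dvd (by omega) h
          omega
        · have := Nat.le_of_dvd (by omega) h
          omega
      have c3 := T.not_dvd3 hs hs5 hq2 h12
      have hN := hdvd (n9 * a12)
        (fun h => by
          rcases (Nat.Prime.dvd_mul Nat.prime_three).1 h with h | h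
          · exact hn9 h
          · exact T.three12 h)
        ((Nat.mul_dvd_mul_right d9 a12).mul_right a8)
      have hlt := lt_sylow hK ht hs hsH hN (fun t htp htN => by
        rcases (Nat.Prime.dvd_mul htp).1 htN with h | h
        · exact ⟨_, i9 t htp (t9 t htp h), c9⟩
        · exact ⟨_, i12 t htp h, fun h' => by
            rcases (Nat.Prime.dvd_mul hs).1 h' with h' | h'
            · exact c12 h'
            · exact c3 h'⟩)
      rw [htp s hs hsr (by omega)] at hlt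
      have hb := T.bound1 hq4
      have hub := tpE_all hs hs5 hq2 hsq'
      have hl : a9 * a12 ≤ 3 * (n9 * a12) := (Nat.mul_le_mul_right _ l9).trans (le_of_eq (by ring))
      omega
    push Not at h12
    have hub := tpE_three hs hs5 hq2 hsq' h12.1 h12.2
    have c2 : ¬ s ∣ q ^ 2 - 1 := by
      have hsq : q ^ 2 - 1 = (q + 1) * (q - 1) := by
        have := Nat.sq_sub_sq q 1
        rwa [one_pow] at this
      rw [hsq]
      intro h
      rcases (Nat.Prime.dvd_mul hs).1 h with h | h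
      · exact h12.2 h
      · exact h12.1 h
    have c8' : ¬ s ∣ a8 * (q ^ 2 - 1) := fun h => by
      rcases (Nat.Prime.dvd_mul hs).1 h with h | h
      · exact c8 h
      · exact c2 h
    by_cases h6 : s ∣ a3
    · have hN := hdvd (n9 * n8)
        (fun h => by
          rcases (Nat.Prime.dvd_mul Nat.prime_three).1 h with h | h
          · exact hn9 h
          · exact hn8 h)
        ((Nat.mul_dvd_mul (d9.trans (dvd_mul_right a9 a12)) d8))
      have hlt := lt_sylow hK ht hs hsH hN (fun t htp htN => by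
        rcases (Nat.Prime.dvd_mul htp).1 htN with h | h
        · exact ⟨_, i9 t htp (t9 t htp h), c9⟩
        · exact ⟨_, i8 t htp (t8 t htp h), c8'⟩)
      rw [htp s hs hsr (by omega)] at hlt
      by_cases hq3 : 3 ≤ q
      · have hb := T.bound2 hq3
        have hl : a9 * a8 ≤ 6 * (n9 * n8) := (Nat.mul_le_mul l9 l8).trans (le_of_eq (by ring))
        omega
      · -- `q = 2`, `s = 7`
        have hq' : q = 2 := by omega
        subst hq'
        have h7 : a3 = 7 := by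
          have := T.h3
          norm_num at this
          exact_mod_cast this
        have h9 : a9 = 73 := by
          have := T.h9
          norm_num at this
          exact_mod_cast this
        have h8 : a8 = 17 := by
          have := T.h8
          norm_num at this
          exact_mod_cast this
        rw [h7] at h6
        have hs7 : s = 7 := (Nat.prime_dvd_prime_iff_eq hs (by norm_num)).1 h6
        subst hs7
        have hub' : tp 7 M ≤ 7 ^ 3 := tp_le_of_not_dvd (by norm_num) hM0 (by rw [hM]; norm_num)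
        have e9 : n9 = 73 := by
          rcases (Nat.dvd_prime (by norm_num : Nat.Prime 73)).1 (h9 ▸ d9) with h | h
          · rw [h, h9] at l9; omega
          · exact h
        have e8 : n8 = 17 := by
          rcases (Nat.dvd_prime (by norm_num : Nat.Prime 17)).1 (h8 ▸ d8) with h | h
          · rw [h, h8] at l8; omega
          · exact h
        rw [e9, e8] at hlt
        norm_num at hlt hub'
        omega
    · have hN := hdvd (n9 * a12 * n8)
        (fun h => by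
          rcases (Nat.Prime.dvd_mul Nat.prime_three).1 h with h | h
          · rcases (Nat.Prime.dvd_mul Nat.prime_three).1 h with h | h
            · exact hn9 h
            · exact T.three12 h
          · exact hn8 h)
        (Nat.mul_dvd_mul (Nat.mul_dvd_mul_right d9 a12) d8)
      have hlt := lt_sylow hK ht hs hsH hN (fun t htp htN => by
        rcases (Nat.Prime.dvd_mul htp).1 htN with h | h
        · rcases (Nat.Prime.dvd_mul htp).1 h with h | h
          · exact ⟨_, i9 t htp (t9 t htp h), c9⟩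
          · exact ⟨_, i12 t htp h, fun h' => by
              rcases (Nat.Prime.dvd_mul hs).1 h' with h' | h'
              · exact c12 h'
              · exact h6 h'⟩
        · exact ⟨_, i8 t htp (t8 t htp h), c8'⟩)
      rw [htp s hs hsr (by omega)] at hlt
      have hb := T.bound3 hq2
      have hl : a9 * a12 * a8 ≤ 6 * (n9 * a12 * n8) :=
        (Nat.mul_le_mul (Nat.mul_le_mul_right _ l9) l8).trans (le_of_eq (by ring))
      omega
  -- the prime 2
  have kill2 : 5 ≤ r → ¬ 2 ∣ Nat.card H := by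
    intro hr5 hsH
    have hq2' := hsq 2 Nat.prime_two (by omega)
    have hodd : q % 2 = 1 := by omega
    have hq3' := hsq 3 Nat.prime_three (by omega)
    have hq5 : 5 ≤ q := by
      by_contra hlt
      have h1 : q = 3 := by omega
      exact hq3' (by rw [h1])
    have hN := hdvd (n9 * a12)
      (fun h => by
        rcases (Nat.Prime.dvd_mul Nat.prime_three).1 h with h | h
        · exact hn9 h
        · exact T.three12 h)
      ((Nat.mul_dvd_mul_right d9 a12).mul_right a8)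
    have hlt := lt_sylow hK ht Nat.prime_two hsH hN (fun t htp htN => by
      rcases (Nat.Prime.dvd_mul htp).1 htN with h | h
      · exact ⟨_, i9 t htp (t9 t htp h), T.odd9⟩
      · exact ⟨_, i12 t htp h, fun h' => by
          rcases (Nat.Prime.dvd_mul Nat.prime_two).1 h' with h' | h'
          · exact T.odd12 h'
          · exact T.odd3 h'⟩)
    rw [htp 2 Nat.prime_two (by omega) (by norm_num)] at hlt
    have hl : a9 * a12 ≤ 3 * (n9 * a12) := (Nat.mul_le_mul_right _ l9).trans (le_of_eq (by ring))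
    have hb : tp 2 (q - 1) ≤ q - 1 := Nat.le_of_dvd (by omega) (tp_dvd 2 (q - 1))
    have hub := tp2_bound (by omega) hodd hb
    rw [← hM] at hub
    have hbd := T.bound4 hq5 le_rfl
    omega
  -- conclusion
  have hge : ∀ s : ℕ, s.Prime → s ≠ 2 → s ≠ 3 → 5 ≤ s := by
    intro s hs h2 h3
    have h1 := hs.two_le
    by_contra hlt
    have h4 : s = 4 := by omega
    rw [h4] at hs
    exact absurd hs (by norm_num)
  by_cases hr5 : 5 ≤ r
  · obtain ⟨t, h1, h2, h3, h4⟩ := not_two_primes (L := H) hc Nat.prime_three hr (by omega)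
    by_cases ht2 : t = 2
    · exact kill2 hr5 (ht2 ▸ h2)
    · exact kill5 t h1 (hge t h1 ht2 h3) h4 h2
  · obtain ⟨t, h1, h2, h3, h4⟩ := not_two_primes (L := H) hc Nat.prime_two Nat.prime_three (by norm_num)
    have h5 := hge t h1 h3 h4
    exact kill5 t h1 h5 (by omega) h2

theorem noKW_isoE6 {G : Type u} [Group G] [Finite G] [IsSimpleGroup G]
    (h : Cfsg.Lie.IsoChevE6 G) : NoKW G := by
  obtain ⟨F, _, _, ⟨e⟩⟩ := h
  exact noKW_e6 e

end Main

end Cfsg.Agent.H118.KW.E6
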